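import Cfsg.Agent.Lib.KnownSimple.Leech.Co3.Rep
import Cfsg.Agent.Lib.KnownSimple.Leech.McL.Main
import Cfsg.Agent.Lib.KnownSimple.Leech.Big


/-!
# The outer automorphism group of the third Conway group
-/

set_option autoImplicit false

namespace Cfsg.Agent.Lib.KnownSimple.Leech.Co3

open Cfsg Cfsg.Spor Cfsg.Agent.Lib.Compute Cfsg.Agent.Lib.Golay Cfsg.Agent.Lib.KnownSimple.PE
open Cfsg.Agent.Lib.KnownSimple Cfsg.Agent.Lib.KnownSimple.AutRigid
open Cfsg.Agent.Lib.KnownSimple.Leech Cfsg.Agent.Lib.KnownSimple.Leech.Co3Data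

/-- The encoding. -/
abbrev E : Enc (Fin N) N := encFin N
/-- The image of the representation. -/
noncomputable abbrev H : Subgroup (Equiv.Perm (Fin N)) := R.rep.range
/-- The group. -/
abbrev G : Type := ↥H

/-- Lookup in a permutation table. -/
noncomputable def pq (t i : ℕ) : ℕ := pget 10 1023 t i

theorem coe_code_mul {a b : G} {f g : ℕ → ℕ} (h1 : E.IsCode (a : Equiv.Perm (Fin N)) f)
    (h2 : E.IsCode (b : Equiv.Perm (Fin N)) g) :
    E.IsCode ((a * b : G) : Equiv.Perm (Fin N)) (fun i => f (g i)) := isCode_mul h1 h2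

theorem phi_mem_G {π : ↥M24} (hπ : π.1 ∈ M23) : phi π ∈ Spor.Co3 := by
  have h1' : π.1 none = none := hπ.2
  have s1 : π.1.symm none = none := by rw [Equiv.symm_apply_eq, h1']
  have e1 : ∀ a, π.1.symm a = none ↔ a = none := fun a => by
    rw [Equiv.symm_apply_eq, h1']
  refine ⟨phi_mem π, Subtype.ext ?_⟩
  funext a
  show vecV (π.1.symm a) = vecV a
  simp only [vecV, e1]

theorem memW23 : MathieuFacts.W ∈ M23 := MathieuOut.mem_M23_of MathieuFacts.mem_W MathieuFacts.code_W (by decide +kernel)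
theorem memU23 : MathieuFacts.U ∈ M23 := MathieuOut.mem_M23_of MathieuFacts.mem_U MathieuFacts.code_U (by decide +kernel)
theorem memX23 : MathieuFacts.X ∈ M23 := MathieuOut.mem_M23_of MathieuFacts.mem_X MathieuFacts.code_X (by decide +kernel)
theorem memY23 : MathieuFacts.Y4 ∈ M23 := MathieuOut.mem_M23_of MathieuFacts.mem_Y4 MathieuFacts.code_Y4 (by decide +kernel)

/-- An element of the group. -/
noncomputable def g0 : ↥Spor.Co3 := ⟨phi ⟨_, MathieuFacts.mem_W⟩, phi_mem_G memW23⟩
/-- An element of the group. -/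
noncomputable def g1 : ↥Spor.Co3 := ⟨phi ⟨_, MathieuFacts.mem_U⟩, phi_mem_G memU23⟩
/-- An element of the group. -/
noncomputable def g2 : ↥Spor.Co3 := ⟨phi ⟨_, MathieuFacts.mem_X⟩, phi_mem_G memX23⟩
/-- An element of the group. -/
noncomputable def gY : ↥Spor.Co3 := ⟨phi ⟨_, MathieuFacts.mem_Y4⟩, phi_mem_G memY23⟩

theorem chkZ : chkElt SZ SZt = true := by decide +kernel

/-- The element outside the monomial group. -/
noncomputable def zP : Equiv.Perm LL := Classical.choose (exists_elt chkZ)
theorem zP_co0 : zP ∈ Co0 := (Classical.choose_spec (exists_elt chkZ)).1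
theorem zP_spec : ∀ (x : LL) (j : ℕ), j < 24 → dotS (rowOf SZ j) (toF x) = 8 * ((zP x : LL) : Vec) (pt j) :=
  (Classical.choose_spec (exists_elt chkZ)).2
theorem colsZ : ∀ i, ∀ q ∈ rowOf SZ i, q.1 < 24 := cols_of_all (by decide +kernel)
theorem zP_v : zP leechV = leechV := img_of_S colsZ zP_spec rowV_pt rowV_pt (by decide +kernel)
/-- An element of the group. -/
noncomputable def g3 : ↥Spor.Co3 := ⟨zP, zP_co0, zP_v⟩

/-- An element of the group. -/
noncomputable def gEM : ↥Spor.Co3 := ⟨McL.eP, McL.eP_co0, McL.eP_v⟩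

theorem code_gY : E.IsCode (R.rep gY) (pq tY) :=
  R.code_of_P (g := gY) (π := ⟨_, MathieuFacts.mem_Y4⟩) rfl MathieuFacts.code_Y4 (by decide +kernel)
theorem code_gEM : E.IsCode (R.rep gEM) (pq tEM) :=
  R.code_of_S (g := gEM) McL.colsE McL.eP_spec (by decide +kernel)

/-- An element of the image. -/
noncomputable def D0 : G := ⟨R.rep g0, g0, rfl⟩
theorem code_D0 : E.IsCode ((D0 : G) : Equiv.Perm (Fin N)) (pq t0) := R.code_of_P (g := g0) (π := ⟨_, MathieuFacts.mem_W⟩) rfl MathieuFacts.code_W (by decide +kernel)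
theorem codei_D0 : E.IsCode ((D0⁻¹ : G) : Equiv.Perm (Fin N)) (pq ti0) :=
  inv_of_chk code_D0 (by decide +kernel)
/-- An element of the image. -/
noncomputable def D1 : G := ⟨R.rep g1, g1, rfl⟩
theorem code_D1 : E.IsCode ((D1 : G) : Equiv.Perm (Fin N)) (pq t1) := R.code_of_P (g := g1) (π := ⟨_, MathieuFacts.mem_U⟩) rfl MathieuFacts.code_U (by decide +kernel)
theorem codei_D1 : E.IsCode ((D1⁻¹ : G) : Equiv.Perm (Fin N)) (pq ti1) :=
  inv_of_chk code_D1 (by decide +kernel)
/-- An element of the image. -/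
noncomputable def D2 : G := ⟨R.rep g2, g2, rfl⟩
theorem code_D2 : E.IsCode ((D2 : G) : Equiv.Perm (Fin N)) (pq t2) := R.code_of_P (g := g2) (π := ⟨_, MathieuFacts.mem_X⟩) rfl MathieuFacts.code_X (by decide +kernel)
theorem codei_D2 : E.IsCode ((D2⁻¹ : G) : Equiv.Perm (Fin N)) (pq ti2) :=
  inv_of_chk code_D2 (by decide +kernel)
/-- An element of the image. -/
noncomputable def D3 : G := ⟨R.rep g3, g3, rfl⟩
theorem code_D3 : E.IsCode ((D3 : G) : Equiv.Perm (Fin N)) (pq t3) := R.code_of_S (g := g3) colsZ zP_spec (by decide +kernel)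
theorem codei_D3 : E.IsCode ((D3⁻¹ : G) : Equiv.Perm (Fin N)) (pq ti3) :=
  inv_of_chk code_D3 (by decide +kernel)

/-- The generators. -/
def Sx : Set (Equiv.Perm (Fin N)) := {(D0 : Equiv.Perm (Fin N)), (D1 : Equiv.Perm (Fin N)), (D2 : Equiv.Perm (Fin N)), (D3 : Equiv.Perm (Fin N))}
/-- The group generated by the generators. -/
def K : Subgroup (Equiv.Perm (Fin N)) := Subgroup.closure Sx

theorem memK_D0 : (D0 : Equiv.Perm (Fin N)) ∈ K := Subgroup.subset_closure (by simp [Sx])
theorem memK_D1 : (D1 : Equiv.Perm (Fin N)) ∈ K := Subgroup.subset_closure (by simp [Sx])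
theorem memK_D2 : (D2 : Equiv.Perm (Fin N)) ∈ K := Subgroup.subset_closure (by simp [Sx])
theorem memK_D3 : (D3 : Equiv.Perm (Fin N)) ∈ K := Subgroup.subset_closure (by simp [Sx])
/-- A strong generator. -/
noncomputable def D4 : G := D2⁻¹ * (D2⁻¹ * (D2⁻¹ * (D2⁻¹ * (D1⁻¹ * (D3⁻¹ * (D0⁻¹ * (D0⁻¹ * (D0⁻¹ * (D1⁻¹ * (D1⁻¹ * (D0 * (D0⁻¹ * (D1⁻¹ * (D2 * (D0 * (D3⁻¹ * (D2⁻¹ * (D2))))))))))))))))))
theorem code_D4 : E.IsCode ((D4 : G) : Equiv.Perm (Fin N)) (pq t4) := by
  have h := coe_code_mul codei_D2 (coe_code_mul codei_D2 (coe_code_mul codei_D2 (coe_code_mul codei_D2 (coe_code_mul codei_D1 (coe_code_mul codei_D3 (coe_code_mul codei_D0 (coe_code_mul codei_D0 (coe_code_mul codei_D0 (coe_code_mul codei_D1 (coe_code_mul codei_D1 (coe_code_mul code_D0 (coe_code_mul codei_D0 (coe_code_mul codei_D1 (coe_code_mul code_D2 (coe_code_mul code_D0 (coe_code_mul codei_D3 (coe_code_mul codei_D2 (code_D2))))))))))))))))))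
  exact congr_of_chk h (by decide +kernel)
theorem codei_D4 : E.IsCode ((D4⁻¹ : G) : Equiv.Perm (Fin N)) (pq ti4) :=
  inv_of_chk code_D4 (by decide +kernel)
theorem memK_D4 : (D4 : Equiv.Perm (Fin N)) ∈ K := K.mul_mem (K.inv_mem memK_D2) (K.mul_mem (K.inv_mem memK_D2) (K.mul_mem (K.inv_mem memK_D2) (K.mul_mem (K.inv_mem memK_D2) (K.mul_mem (K.inv_mem memK_D1) (K.mul_mem (K.inv_mem memK_D3) (K.mul_mem (K.inv_mem memK_D0) (K.mul_mem (K.inv_mem memK_D0) (K.mul_mem (K.inv_mem memK_D0) (K.mul_mem (K.inv_mem memK_D1) (K.mul_mem (K.inv_mem memK_D1) (K.mul_mem (memK_D0) (K.mul_mem (K.inv_mem memK_D0) (K.mul_mem (K.inv_mem memK_D1) (K.mul_mem (memK_D2) (K.mul_mem (memK_D0) (K.mul_mem (K.inv_mem memK_D3) (K.mul_mem (K.inv_mem memK_D2) (memK_D2))))))))))))))))))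
/-- A strong generator. -/
noncomputable def D5 : G := D2⁻¹ * (D4⁻¹ * (D1⁻¹ * (D0⁻¹ * (D0⁻¹ * (D0⁻¹ * (D0⁻¹ * (D3⁻¹ * (D3⁻¹ * (D1 * (D1 * (D0 * (D2 * (D1⁻¹)))))))))))))
theorem code_D5 : E.IsCode ((D5 : G) : Equiv.Perm (Fin N)) (pq t5) := by
  have h := coe_code_mul codei_D2 (coe_code_mul codei_D4 (coe_code_mul codei_D1 (coe_code_mul codei_D0 (coe_code_mul codei_D0 (coe_code_mul codei_D0 (coe_code_mul codei_D0 (coe_code_mul codei_D3 (coe_code_mul codei_D3 (coe_code_mul code_D1 (coe_code_mul code_D1 (coe_code_mul code_D0 (coe_code_mul code_D2 (codei_D1)))))))))))))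
  exact congr_of_chk h (by decide +kernel)
theorem codei_D5 : E.IsCode ((D5⁻¹ : G) : Equiv.Perm (Fin N)) (pq ti5) :=
  inv_of_chk code_D5 (by decide +kernel)
theorem memK_D5 : (D5 : Equiv.Perm (Fin N)) ∈ K := K.mul_mem (K.inv_mem memK_D2) (K.mul_mem (K.inv_mem memK_D4) (K.mul_mem (K.inv_mem memK_D1) (K.mul_mem (K.inv_mem memK_D0) (K.mul_mem (K.inv_mem memK_D0) (K.mul_mem (K.inv_mem memK_D0) (K.mul_mem (K.inv_mem memK_D0) (K.mul_mem (K.inv_mem memK_D3) (K.mul_mem (K.inv_mem memK_D3) (K.mul_mem (memK_D1) (K.mul_mem (memK_D1) (K.mul_mem (memK_D0) (K.mul_mem (memK_D2) (K.inv_mem memK_D1)))))))))))))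
/-- A strong generator. -/
noncomputable def D6 : G := D4⁻¹ * (D5⁻¹ * (D4⁻¹ * (D2⁻¹ * (D1⁻¹ * (D5⁻¹ * (D4⁻¹ * (D3⁻¹ * (D1⁻¹ * (D3⁻¹ * (D2⁻¹ * (D3 * (D3⁻¹ * (D1⁻¹)))))))))))))
theorem code_D6 : E.IsCode ((D6 : G) : Equiv.Perm (Fin N)) (pq t6) := by
  have h := coe_code_mul codei_D4 (coe_code_mul codei_D5 (coe_code_mul codei_D4 (coe_code_mul codei_D2 (coe_code_mul codei_D1 (coe_code_mul codei_D5 (coe_code_mul codei_D4 (coe_code_mul codei_D3 (coe_code_mul codei_D1 (coe_code_mul codei_D3 (coe_code_mul codei_D2 (coe_code_mul code_D3 (coe_code_mul codei_D3 (codei_D1)))))))))))))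
  exact congr_of_chk h (by decide +kernel)
theorem codei_D6 : E.IsCode ((D6⁻¹ : G) : Equiv.Perm (Fin N)) (pq ti6) :=
  inv_of_chk code_D6 (by decide +kernel)
theorem memK_D6 : (D6 : Equiv.Perm (Fin N)) ∈ K := K.mul_mem (K.inv_mem memK_D4) (K.mul_mem (K.inv_mem memK_D5) (K.mul_mem (K.inv_mem memK_D4) (K.mul_mem (K.inv_mem memK_D2) (K.mul_mem (K.inv_mem memK_D1) (K.mul_mem (K.inv_mem memK_D5) (K.mul_mem (K.inv_mem memK_D4) (K.mul_mem (K.inv_mem memK_D3) (K.mul_mem (K.inv_mem memK_D1) (K.mul_mem (K.inv_mem memK_D3) (K.mul_mem (K.inv_mem memK_D2) (K.mul_mem (memK_D3) (K.mul_mem (K.inv_mem memK_D3) (K.inv_mem memK_D1)))))))))))))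
/-- A strong generator. -/
noncomputable def D7 : G := D4⁻¹ * (D4⁻¹ * (D1⁻¹ * (D6⁻¹ * (D3⁻¹ * (D3⁻¹ * (D3⁻¹ * (D2⁻¹ * (D3))))))))
theorem code_D7 : E.IsCode ((D7 : G) : Equiv.Perm (Fin N)) (pq t7) := by
  have h := coe_code_mul codei_D4 (coe_code_mul codei_D4 (coe_code_mul codei_D1 (coe_code_mul codei_D6 (coe_code_mul codei_D3 (coe_code_mul codei_D3 (coe_code_mul codei_D3 (coe_code_mul codei_D2 (code_D3))))))))
  exact congr_of_chk h (by decide +kernel)
theorem codei_D7 : E.IsCode ((D7⁻¹ : G) : Equiv.Perm (Fin N)) (pq ti7) :=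
  inv_of_chk code_D7 (by decide +kernel)
theorem memK_D7 : (D7 : Equiv.Perm (Fin N)) ∈ K := K.mul_mem (K.inv_mem memK_D4) (K.mul_mem (K.inv_mem memK_D4) (K.mul_mem (K.inv_mem memK_D1) (K.mul_mem (K.inv_mem memK_D6) (K.mul_mem (K.inv_mem memK_D3) (K.mul_mem (K.inv_mem memK_D3) (K.mul_mem (K.inv_mem memK_D3) (K.mul_mem (K.inv_mem memK_D2) (memK_D3))))))))
/-- A strong generator. -/
noncomputable def D8 : G := D7⁻¹ * (D6⁻¹ * (D6⁻¹ * (D7⁻¹ * (D5⁻¹ * (D4⁻¹ * (D4⁻¹ * (D2⁻¹ * (D7⁻¹ * (D3⁻¹ * (D1⁻¹ * (D3⁻¹ * (D2⁻¹ * (D2)))))))))))))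
theorem code_D8 : E.IsCode ((D8 : G) : Equiv.Perm (Fin N)) (pq t8) := by
  have h := coe_code_mul codei_D7 (coe_code_mul codei_D6 (coe_code_mul codei_D6 (coe_code_mul codei_D7 (coe_code_mul codei_D5 (coe_code_mul codei_D4 (coe_code_mul codei_D4 (coe_code_mul codei_D2 (coe_code_mul codei_D7 (coe_code_mul codei_D3 (coe_code_mul codei_D1 (coe_code_mul codei_D3 (coe_code_mul codei_D2 (code_D2)))))))))))))
  exact congr_of_chk h (by decide +kernel)
theorem codei_D8 : E.IsCode ((D8⁻¹ : G) : Equiv.Perm (Fin N)) (pq ti8) :=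
  inv_of_chk code_D8 (by decide +kernel)
theorem memK_D8 : (D8 : Equiv.Perm (Fin N)) ∈ K := K.mul_mem (K.inv_mem memK_D7) (K.mul_mem (K.inv_mem memK_D6) (K.mul_mem (K.inv_mem memK_D6) (K.mul_mem (K.inv_mem memK_D7) (K.mul_mem (K.inv_mem memK_D5) (K.mul_mem (K.inv_mem memK_D4) (K.mul_mem (K.inv_mem memK_D4) (K.mul_mem (K.inv_mem memK_D2) (K.mul_mem (K.inv_mem memK_D7) (K.mul_mem (K.inv_mem memK_D3) (K.mul_mem (K.inv_mem memK_D1) (K.mul_mem (K.inv_mem memK_D3) (K.mul_mem (K.inv_mem memK_D2) (memK_D2)))))))))))))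
/-- A strong generator. -/
noncomputable def D9 : G := D0⁻¹ * (D5⁻¹ * (D8⁻¹ * (D2 * (D2 * (D1 * (D0 * (D2)))))))
theorem code_D9 : E.IsCode ((D9 : G) : Equiv.Perm (Fin N)) (pq t9) := by
  have h := coe_code_mul codei_D0 (coe_code_mul codei_D5 (coe_code_mul codei_D8 (coe_code_mul code_D2 (coe_code_mul code_D2 (coe_code_mul code_D1 (coe_code_mul code_D0 (code_D2)))))))
  exact congr_of_chk h (by decide +kernel)
theorem codei_D9 : E.IsCode ((D9⁻¹ : G) : Equiv.Perm (Fin N)) (pq ti9) :=
  inv_of_chk code_D9 (by decide +kernel)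
theorem memK_D9 : (D9 : Equiv.Perm (Fin N)) ∈ K := K.mul_mem (K.inv_mem memK_D0) (K.mul_mem (K.inv_mem memK_D5) (K.mul_mem (K.inv_mem memK_D8) (K.mul_mem (memK_D2) (K.mul_mem (memK_D2) (K.mul_mem (memK_D1) (K.mul_mem (memK_D0) (memK_D2)))))))
/-- A strong generator. -/
noncomputable def D10 : G := D9⁻¹ * (D2⁻¹ * (D1⁻¹ * (D8⁻¹ * (D0⁻¹ * (D3⁻¹ * (D7⁻¹ * (D9⁻¹ * (D0 * (D2 * (D1 * (D3 * (D0⁻¹ * (D2 * (D1))))))))))))))
theorem code_D10 : E.IsCode ((D10 : G) : Equiv.Perm (Fin N)) (pq t10) := by
  have h := coe_code_mul codei_D9 (coe_code_mul codei_D2 (coe_code_mul codei_D1 (coe_code_mul codei_D8 (coe_code_mul codei_D0 (coe_code_mul codei_D3 (coe_code_mul codei_D7 (coe_code_mul codei_D9 (coe_code_mul code_D0 (coe_code_mul code_D2 (coe_code_mul code_D1 (coe_code_mul code_D3 (coe_code_mul codei_D0 (coe_code_mul code_D2 (code_D1))))))))))))))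
  exact congr_of_chk h (by decide +kernel)
theorem codei_D10 : E.IsCode ((D10⁻¹ : G) : Equiv.Perm (Fin N)) (pq ti10) :=
  inv_of_chk code_D10 (by decide +kernel)
theorem memK_D10 : (D10 : Equiv.Perm (Fin N)) ∈ K := K.mul_mem (K.inv_mem memK_D9) (K.mul_mem (K.inv_mem memK_D2) (K.mul_mem (K.inv_mem memK_D1) (K.mul_mem (K.inv_mem memK_D8) (K.mul_mem (K.inv_mem memK_D0) (K.mul_mem (K.inv_mem memK_D3) (K.mul_mem (K.inv_mem memK_D7) (K.mul_mem (K.inv_mem memK_D9) (K.mul_mem (memK_D0) (K.mul_mem (memK_D2) (K.mul_mem (memK_D1) (K.mul_mem (memK_D3) (K.mul_mem (K.inv_mem memK_D0) (K.mul_mem (memK_D2) (memK_D1))))))))))))))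
/-- A strong generator. -/
noncomputable def D11 : G := D7⁻¹ * (D6⁻¹ * (D10⁻¹ * (D4⁻¹ * (D4⁻¹ * (D1⁻¹ * (D5⁻¹ * (D8⁻¹ * (D9⁻¹ * (D0⁻¹ * (D7⁻¹ * (D6⁻¹ * (D6⁻¹ * (D0⁻¹ * (D2 * (D1 * (D0⁻¹ * (D0 * (D1 * (D0⁻¹)))))))))))))))))))
theorem code_D11 : E.IsCode ((D11 : G) : Equiv.Perm (Fin N)) (pq t11) := by
  have h := coe_code_mul codei_D7 (coe_code_mul codei_D6 (coe_code_mul codei_D10 (coe_code_mul codei_D4 (coe_code_mul codei_D4 (coe_code_mul codei_D1 (coe_code_mul codei_D5 (coe_code_mul codei_D8 (coe_code_mul codei_D9 (coe_code_mul codei_D0 (coe_code_mul codei_D7 (coe_code_mul codei_D6 (coe_code_mul codei_D6 (coe_code_mul codei_D0 (coe_code_mul code_D2 (coe_code_mul code_D1 (coe_code_mul codei_D0 (coe_code_mul code_D0 (coe_code_mul code_D1 (codei_D0)))))))))))))))))))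
  exact congr_of_chk h (by decide +kernel)
theorem codei_D11 : E.IsCode ((D11⁻¹ : G) : Equiv.Perm (Fin N)) (pq ti11) :=
  inv_of_chk code_D11 (by decide +kernel)
theorem memK_D11 : (D11 : Equiv.Perm (Fin N)) ∈ K := K.mul_mem (K.inv_mem memK_D7) (K.mul_mem (K.inv_mem memK_D6) (K.mul_mem (K.inv_mem memK_D10) (K.mul_mem (K.inv_mem memK_D4) (K.mul_mem (K.inv_mem memK_D4) (K.mul_mem (K.inv_mem memK_D1) (K.mul_mem (K.inv_mem memK_D5) (K.mul_mem (K.inv_mem memK_D8) (K.mul_mem (K.inv_mem memK_D9) (K.mul_mem (K.inv_mem memK_D0) (K.mul_mem (K.inv_mem memK_D7) (K.mul_mem (K.inv_mem memK_D6) (K.mul_mem (K.inv_mem memK_D6) (K.mul_mem (K.inv_mem memK_D0) (K.mul_mem (memK_D2) (K.mul_mem (memK_D1) (K.mul_mem (K.inv_mem memK_D0) (K.mul_mem (memK_D0) (K.mul_mem (memK_D1) (K.inv_mem memK_D0)))))))))))))))))))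
/-- A strong generator. -/
noncomputable def D12 : G := D7⁻¹ * (D8⁻¹ * (D11⁻¹ * (D10⁻¹ * (D11⁻¹ * (D4⁻¹ * (D9⁻¹ * (D11⁻¹ * (D7⁻¹ * (D0⁻¹ * (D3⁻¹ * (D4⁻¹ * (D1⁻¹ * (D3 * (D0⁻¹))))))))))))))
theorem code_D12 : E.IsCode ((D12 : G) : Equiv.Perm (Fin N)) (pq t12) := by
  have h := coe_code_mul codei_D7 (coe_code_mul codei_D8 (coe_code_mul codei_D11 (coe_code_mul codei_D10 (coe_code_mul codei_D11 (coe_code_mul codei_D4 (coe_code_mul codei_D9 (coe_code_mul codei_D11 (coe_code_mul codei_D7 (coe_code_mul codei_D0 (coe_code_mul codei_D3 (coe_code_mul codei_D4 (coe_code_mul codei_D1 (coe_code_mul code_D3 (codei_D0))))))))))))))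
  exact congr_of_chk h (by decide +kernel)
theorem codei_D12 : E.IsCode ((D12⁻¹ : G) : Equiv.Perm (Fin N)) (pq ti12) :=
  inv_of_chk code_D12 (by decide +kernel)
theorem memK_D12 : (D12 : Equiv.Perm (Fin N)) ∈ K := K.mul_mem (K.inv_mem memK_D7) (K.mul_mem (K.inv_mem memK_D8) (K.mul_mem (K.inv_mem memK_D11) (K.mul_mem (K.inv_mem memK_D10) (K.mul_mem (K.inv_mem memK_D11) (K.mul_mem (K.inv_mem memK_D4) (K.mul_mem (K.inv_mem memK_D9) (K.mul_mem (K.inv_mem memK_D11) (K.mul_mem (K.inv_mem memK_D7) (K.mul_mem (K.inv_mem memK_D0) (K.mul_mem (K.inv_mem memK_D3) (K.mul_mem (K.inv_mem memK_D4) (K.mul_mem (K.inv_mem memK_D1) (K.mul_mem (memK_D3) (K.inv_mem memK_D0))))))))))))))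
/-- A strong generator. -/
noncomputable def D13 : G := D11⁻¹ * (D6⁻¹ * (D6⁻¹ * (D7⁻¹ * (D8⁻¹ * (D10⁻¹ * (D7⁻¹ * (D5⁻¹ * (D2⁻¹ * (D12⁻¹ * (D8⁻¹ * (D0⁻¹ * (D3⁻¹ * (D4⁻¹ * (D7⁻¹ * (D1 * (D3⁻¹ * (D0 * (D2⁻¹ * (D2⁻¹ * (D0⁻¹))))))))))))))))))))
theorem code_D13 : E.IsCode ((D13 : G) : Equiv.Perm (Fin N)) (pq t13) := by
  have h := coe_code_mul codei_D11 (coe_code_mul codei_D6 (coe_code_mul codei_D6 (coe_code_mul codei_D7 (coe_code_mul codei_D8 (coe_code_mul codei_D10 (coe_code_mul codei_D7 (coe_code_mul codei_D5 (coe_code_mul codei_D2 (coe_code_mul codei_D12 (coe_code_mul codei_D8 (coe_code_mul codei_D0 (coe_code_mul codei_D3 (coe_code_mul codei_D4 (coe_code_mul codei_D7 (coe_code_mul code_D1 (coe_code_mul codei_D3 (coe_code_mul code_D0 (coe_code_mul codei_D2 (coe_code_mul codei_D2 (codei_D0))))))))))))))))))))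
  exact congr_of_chk h (by decide +kernel)
theorem codei_D13 : E.IsCode ((D13⁻¹ : G) : Equiv.Perm (Fin N)) (pq ti13) :=
  inv_of_chk code_D13 (by decide +kernel)
theorem memK_D13 : (D13 : Equiv.Perm (Fin N)) ∈ K := K.mul_mem (K.inv_mem memK_D11) (K.mul_mem (K.inv_mem memK_D6) (K.mul_mem (K.inv_mem memK_D6) (K.mul_mem (K.inv_mem memK_D7) (K.mul_mem (K.inv_mem memK_D8) (K.mul_mem (K.inv_mem memK_D10) (K.mul_mem (K.inv_mem memK_D7) (K.mul_mem (K.inv_mem memK_D5) (K.mul_mem (K.inv_mem memK_D2) (K.mul_mem (K.inv_mem memK_D12) (K.mul_mem (K.inv_mem memK_D8) (K.mul_mem (K.inv_mem memK_D0) (K.mul_mem (K.inv_mem memK_D3) (K.mul_mem (K.inv_mem memK_D4) (K.mul_mem (K.inv_mem memK_D7) (K.mul_mem (memK_D1) (K.mul_mem (K.inv_mem memK_D3) (K.mul_mem (memK_D0) (K.mul_mem (K.inv_mem memK_D2) (K.mul_mem (K.inv_mem memK_D2) (K.inv_mem memK_D0))))))))))))))))))))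

/-- The strong generators. -/
noncomputable def gK : ℕ → G := lgetD 1 [D8, D13, D11, D12, D6, D7, D4, D5, D10, D1, D2, D9]
/-- Their tables. -/
noncomputable def tK : List ℕ := [t8, t13, t11, t12, t6, t7, t4, t5, t10, t1, t2, t9]
/-- The tables of their inverses. -/
noncomputable def tiK : List ℕ := [ti8, ti13, ti11, ti12, ti6, ti7, ti4, ti5, ti10, ti1, ti2, ti9]
/-- Their codes. -/
noncomputable def cK (k i : ℕ) : ℕ := pq (lgetD 0 tK k) i
/-- The codes of their inverses. -/
noncomputable def ciK (k i : ℕ) : ℕ := pq (lgetD 0 tiK k) i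

/-- The strong generators as data. -/
noncomputable def hh : Hier E H 12 where
  g := fun k => (gK k).1
  c := cK
  ci := ciK
  hg := fun k _ => (gK k).2
  hc := fun k hk => by
    interval_cases k
    · exact code_D8
    · exact code_D13
    · exact code_D11
    · exact code_D12
    · exact code_D6
    · exact code_D7
    · exact code_D4
    · exact code_D5
    · exact code_D10
    · exact code_D1
    · exact code_D2
    · exact code_D9
  hci := fun k hk => by
    interval_cases k
    · exact codei_D8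
    · exact codei_D13
    · exact codei_D11
    · exact codei_D12
    · exact codei_D6
    · exact codei_D7
    · exact codei_D4
    · exact codei_D5
    · exact codei_D10
    · exact codei_D1
    · exact codei_D2
    · exact codei_D9

/-- The codes of the top level. -/
noncomputable def fsTop : ℕ → ℕ → ℕ := lgetD (fun a => a) [pq t0, pq t1, pq t2, pq t3]
/-- The inverse codes of the top level. -/
noncomputable def gsTop : ℕ → ℕ → ℕ := lgetD (fun a => a) [pq ti0, pq ti1, pq ti2, pq ti3]

/-- A level. -/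
noncomputable def L0 : Lev :=
  { b := 529, D := D_L0, arr := A_L0, w := 18, m := 262143, mp := 1023, bn := 10, mg := 15, bd := 14,
    fs := fsTop, gs := gsTop }

/-- A level. -/
noncomputable def L1 : Lev :=
  { b := 46, D := D_L1, arr := A_L1, w := 17, m := 131071, mp := 1023, bn := 10, mg := 15, bd := 14,
    fs := bc cK 12, gs := bc ciK 12 }

/-- A level. -/
noncomputable def L2 : Lev :=
  { b := 270, D := D_L2, arr := A_L2, w := 17, m := 131071, mp := 1023, bn := 10, mg := 15, bd := 14,
    fs := bc cK 9, gs := bc ciK 9 }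

/-- A level. -/
noncomputable def L3 : Lev :=
  { b := 1, D := D_L3, arr := A_L3, w := 17, m := 131071, mp := 1023, bn := 10, mg := 15, bd := 14,
    fs := bc cK 6, gs := bc ciK 6 }

/-- A level. -/
noncomputable def L4 : Lev :=
  { b := 0, D := D_L4, arr := A_L4, w := 17, m := 131071, mp := 1023, bn := 10, mg := 15, bd := 14,
    fs := bc cK 4, gs := bc ciK 4 }

/-- A level. -/
noncomputable def L5 : Lev :=
  { b := 2, D := D_L5, arr := A_L5, w := 17, m := 131071, mp := 1023, bn := 10, mg := 15, bd := 14,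
    fs := bc cK 2, gs := bc ciK 2 }

/-- The base. -/
def baseAll : List ℕ := [529, 46, 270, 1, 0, 2, 3, 4, 5, 6, 7, 8, 9, 10, 11, 12, 13, 14, 15, 16, 17, 19, 20, 21]
/-- The trailing part of the base. -/
def trailL : List ℕ := [3, 4, 5, 6, 7, 8, 9, 10, 11, 12, 13, 14, 15, 16, 17, 19, 20, 21]

theorem hbl : ∀ b ∈ baseAll, b < N := by decide
theorem hts : ∀ t ∈ ([] : List (List (ℕ × ℤ))), ∃ v, (t, v) ∈ R.tests := fun t ht => by simp at ht
/-- The coefficients. -/
noncomputable def Cq (j i : ℕ) : ℤ := (spanC.getD j []).getD i 0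
theorem hspan : chkSpan 18 (famB R.tab baseAll ([] : List (List (ℕ × ℤ)))) (baseAll.length + ([] : List (List (ℕ × ℤ))).length) Cq = true := by decide +kernel

theorem based_all : Based E H baseAll := R.based_of (D := 18) (by norm_num) hbl hts hspan
theorem hinj : Function.Injective R.rep := R.rep_inj_of (D := 18) (by norm_num) hbl hts hspan

theorem tree5 : L5.treeOK N = true := by decide +kernel
/-- The tail of the chain. -/
noncomputable def chTail5 : List Lev := trailL.map triv
set_option maxRecDepth 100000 in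
theorem sch5_0 : chunk (schG N L5 chTail5 2) 23 0 = true := by decide +kernel
set_option maxRecDepth 100000 in
theorem sch5_1 : chunk (schG N L5 chTail5 2) 23 1 = true := by decide +kernel
set_option maxRecDepth 100000 in
theorem sch5_2 : chunk (schG N L5 chTail5 2) 23 2 = true := by decide +kernel
set_option maxRecDepth 100000 in
theorem sch5_3 : chunk (schG N L5 chTail5 2) 23 3 = true := by decide +kernel
set_option maxRecDepth 100000 in
theorem sch5_4 : chunk (schG N L5 chTail5 2) 23 4 = true := by decide +kernel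
set_option maxRecDepth 100000 in
theorem sch5_5 : chunk (schG N L5 chTail5 2) 23 5 = true := by decide +kernel
set_option maxRecDepth 100000 in
theorem sch5_6 : chunk (schG N L5 chTail5 2) 23 6 = true := by decide +kernel
set_option maxRecDepth 100000 in
theorem sch5_7 : chunk (schG N L5 chTail5 2) 23 7 = true := by decide +kernel
set_option maxRecDepth 100000 in
theorem sch5_8 : chunk (schG N L5 chTail5 2) 23 8 = true := by decide +kernel
set_option maxRecDepth 100000 in
theorem sch5_9 : chunk (schG N L5 chTail5 2) 23 9 = true := by decide +kernel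
set_option maxRecDepth 100000 in
theorem sch5_10 : chunk (schG N L5 chTail5 2) 23 10 = true := by decide +kernel
set_option maxRecDepth 100000 in
theorem sch5_11 : chunk (schG N L5 chTail5 2) 23 11 = true := by decide +kernel
set_option maxRecDepth 100000 in
theorem sch5_12 : chunk (schG N L5 chTail5 2) 23 12 = true := by decide +kernel
set_option maxRecDepth 100000 in
theorem sch5_13 : chunk (schG N L5 chTail5 2) 23 13 = true := by decide +kernel
set_option maxRecDepth 100000 in
theorem sch5_14 : chunk (schG N L5 chTail5 2) 23 14 = true := by decide +kernel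
set_option maxRecDepth 100000 in
theorem sch5_15 : chunk (schG N L5 chTail5 2) 23 15 = true := by decide +kernel
set_option maxRecDepth 100000 in
theorem sch5_16 : chunk (schG N L5 chTail5 2) 23 16 = true := by decide +kernel
set_option maxRecDepth 100000 in
theorem sch5_17 : chunk (schG N L5 chTail5 2) 23 17 = true := by decide +kernel
set_option maxRecDepth 100000 in
theorem sch5_18 : chunk (schG N L5 chTail5 2) 23 18 = true := by decide +kernel
set_option maxRecDepth 100000 in
theorem sch5_19 : chunk (schG N L5 chTail5 2) 23 19 = true := by decide +kernel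
set_option maxRecDepth 100000 in
theorem sch5_20 : chunk (schG N L5 chTail5 2) 23 20 = true := by decide +kernel
set_option maxRecDepth 100000 in
theorem sch5_21 : chunk (schG N L5 chTail5 2) 23 21 = true := by decide +kernel
set_option maxRecDepth 100000 in
theorem sch5_22 : chunk (schG N L5 chTail5 2) 23 22 = true := by decide +kernel
set_option maxRecDepth 100000 in
theorem sch5_23 : chunk (schG N L5 chTail5 2) 23 23 = true := by decide +kernel
theorem sch5 : schOK N L5 chTail5 2 = true :=
  schOK_of_chunks (m := 24) (s := 23) (by norm_num) (fun c hc => by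
    interval_cases c
    · exact sch5_0
    · exact sch5_1
    · exact sch5_2
    · exact sch5_3
    · exact sch5_4
    · exact sch5_5
    · exact sch5_6
    · exact sch5_7
    · exact sch5_8
    · exact sch5_9
    · exact sch5_10
    · exact sch5_11
    · exact sch5_12
    · exact sch5_13
    · exact sch5_14
    · exact sch5_15
    · exact sch5_16
    · exact sch5_17
    · exact sch5_18
    · exact sch5_19
    · exact sch5_20
    · exact sch5_21
    · exact sch5_22
    · exact sch5_23
  )
theorem lev5 : LevelSem E (hh.K 2) (hh.K 0) L5 :=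
  hh.level_cons (m := 2) (m' := 0) (by norm_num) (by norm_num) rfl rfl (by decide +kernel) tree5 (by decide +kernel) (by decide +kernel)
    (by decide +kernel) (hh.chain_end trailL (by decide)) [529, 46, 270, 1, 0] ((by decide +kernel : [529, 46, 270, 1, 0] ++ L5.b :: basesOf chTail5 = baseAll) ▸ based_all) (by decide) (by decide +kernel) sch5
theorem chT5 : ChainSem E (hh.K 2) (L5 :: chTail5) := ⟨_, lev5, (hh.chain_end trailL (by decide))⟩

theorem tree4 : L4.treeOK N = true := by decide +kernel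
/-- The tail of the chain. -/
noncomputable def chTail4 : List Lev := L5 :: chTail5
set_option maxRecDepth 100000 in
theorem sch4_0 : chunk (schG N L4 chTail4 4) 23 0 = true := by decide +kernel
set_option maxRecDepth 100000 in
theorem sch4_1 : chunk (schG N L4 chTail4 4) 23 1 = true := by decide +kernel
set_option maxRecDepth 100000 in
theorem sch4_2 : chunk (schG N L4 chTail4 4) 23 2 = true := by decide +kernel
set_option maxRecDepth 100000 in
theorem sch4_3 : chunk (schG N L4 chTail4 4) 23 3 = true := by decide +kernel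
set_option maxRecDepth 100000 in
theorem sch4_4 : chunk (schG N L4 chTail4 4) 23 4 = true := by decide +kernel
set_option maxRecDepth 100000 in
theorem sch4_5 : chunk (schG N L4 chTail4 4) 23 5 = true := by decide +kernel
set_option maxRecDepth 100000 in
theorem sch4_6 : chunk (schG N L4 chTail4 4) 23 6 = true := by decide +kernel
set_option maxRecDepth 100000 in
theorem sch4_7 : chunk (schG N L4 chTail4 4) 23 7 = true := by decide +kernel
set_option maxRecDepth 100000 in
theorem sch4_8 : chunk (schG N L4 chTail4 4) 23 8 = true := by decide +kernel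
set_option maxRecDepth 100000 in
theorem sch4_9 : chunk (schG N L4 chTail4 4) 23 9 = true := by decide +kernel
set_option maxRecDepth 100000 in
theorem sch4_10 : chunk (schG N L4 chTail4 4) 23 10 = true := by decide +kernel
set_option maxRecDepth 100000 in
theorem sch4_11 : chunk (schG N L4 chTail4 4) 23 11 = true := by decide +kernel
set_option maxRecDepth 100000 in
theorem sch4_12 : chunk (schG N L4 chTail4 4) 23 12 = true := by decide +kernel
set_option maxRecDepth 100000 in
theorem sch4_13 : chunk (schG N L4 chTail4 4) 23 13 = true := by decide +kernel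
set_option maxRecDepth 100000 in
theorem sch4_14 : chunk (schG N L4 chTail4 4) 23 14 = true := by decide +kernel
set_option maxRecDepth 100000 in
theorem sch4_15 : chunk (schG N L4 chTail4 4) 23 15 = true := by decide +kernel
set_option maxRecDepth 100000 in
theorem sch4_16 : chunk (schG N L4 chTail4 4) 23 16 = true := by decide +kernel
set_option maxRecDepth 100000 in
theorem sch4_17 : chunk (schG N L4 chTail4 4) 23 17 = true := by decide +kernel
set_option maxRecDepth 100000 in
theorem sch4_18 : chunk (schG N L4 chTail4 4) 23 18 = true := by decide +kernel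
set_option maxRecDepth 100000 in
theorem sch4_19 : chunk (schG N L4 chTail4 4) 23 19 = true := by decide +kernel
set_option maxRecDepth 100000 in
theorem sch4_20 : chunk (schG N L4 chTail4 4) 23 20 = true := by decide +kernel
set_option maxRecDepth 100000 in
theorem sch4_21 : chunk (schG N L4 chTail4 4) 23 21 = true := by decide +kernel
set_option maxRecDepth 100000 in
theorem sch4_22 : chunk (schG N L4 chTail4 4) 23 22 = true := by decide +kernel
set_option maxRecDepth 100000 in
theorem sch4_23 : chunk (schG N L4 chTail4 4) 23 23 = true := by decide +kernel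
theorem sch4 : schOK N L4 chTail4 4 = true :=
  schOK_of_chunks (m := 24) (s := 23) (by norm_num) (fun c hc => by
    interval_cases c
    · exact sch4_0
    · exact sch4_1
    · exact sch4_2
    · exact sch4_3
    · exact sch4_4
    · exact sch4_5
    · exact sch4_6
    · exact sch4_7
    · exact sch4_8
    · exact sch4_9
    · exact sch4_10
    · exact sch4_11
    · exact sch4_12
    · exact sch4_13
    · exact sch4_14
    · exact sch4_15
    · exact sch4_16
    · exact sch4_17
    · exact sch4_18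
    · exact sch4_19
    · exact sch4_20
    · exact sch4_21
    · exact sch4_22
    · exact sch4_23
  )
theorem lev4 : LevelSem E (hh.K 4) (hh.K 2) L4 :=
  hh.level_cons (m := 4) (m' := 2) (by norm_num) (by norm_num) rfl rfl (by decide +kernel) tree4 (by decide +kernel) (by decide +kernel)
    (by decide +kernel) chT5 [529, 46, 270, 1] ((by decide +kernel : [529, 46, 270, 1] ++ L4.b :: basesOf chTail4 = baseAll) ▸ based_all) (by decide) (by decide +kernel) sch4
theorem chT4 : ChainSem E (hh.K 4) (L4 :: chTail4) := ⟨_, lev4, chT5⟩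

theorem tree3 : L3.treeOK N = true := by decide +kernel
/-- The tail of the chain. -/
noncomputable def chTail3 : List Lev := L4 :: chTail4
set_option maxRecDepth 100000 in
theorem sch3_0 : chunk (schG N L3 chTail3 6) 23 0 = true := by decide +kernel
set_option maxRecDepth 100000 in
theorem sch3_1 : chunk (schG N L3 chTail3 6) 23 1 = true := by decide +kernel
set_option maxRecDepth 100000 in
theorem sch3_2 : chunk (schG N L3 chTail3 6) 23 2 = true := by decide +kernel
set_option maxRecDepth 100000 in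
theorem sch3_3 : chunk (schG N L3 chTail3 6) 23 3 = true := by decide +kernel
set_option maxRecDepth 100000 in
theorem sch3_4 : chunk (schG N L3 chTail3 6) 23 4 = true := by decide +kernel
set_option maxRecDepth 100000 in
theorem sch3_5 : chunk (schG N L3 chTail3 6) 23 5 = true := by decide +kernel
set_option maxRecDepth 100000 in
theorem sch3_6 : chunk (schG N L3 chTail3 6) 23 6 = true := by decide +kernel
set_option maxRecDepth 100000 in
theorem sch3_7 : chunk (schG N L3 chTail3 6) 23 7 = true := by decide +kernel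
set_option maxRecDepth 100000 in
theorem sch3_8 : chunk (schG N L3 chTail3 6) 23 8 = true := by decide +kernel
set_option maxRecDepth 100000 in
theorem sch3_9 : chunk (schG N L3 chTail3 6) 23 9 = true := by decide +kernel
set_option maxRecDepth 100000 in
theorem sch3_10 : chunk (schG N L3 chTail3 6) 23 10 = true := by decide +kernel
set_option maxRecDepth 100000 in
theorem sch3_11 : chunk (schG N L3 chTail3 6) 23 11 = true := by decide +kernel
set_option maxRecDepth 100000 in
theorem sch3_12 : chunk (schG N L3 chTail3 6) 23 12 = true := by decide +kernel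
set_option maxRecDepth 100000 in
theorem sch3_13 : chunk (schG N L3 chTail3 6) 23 13 = true := by decide +kernel
set_option maxRecDepth 100000 in
theorem sch3_14 : chunk (schG N L3 chTail3 6) 23 14 = true := by decide +kernel
set_option maxRecDepth 100000 in
theorem sch3_15 : chunk (schG N L3 chTail3 6) 23 15 = true := by decide +kernel
set_option maxRecDepth 100000 in
theorem sch3_16 : chunk (schG N L3 chTail3 6) 23 16 = true := by decide +kernel
set_option maxRecDepth 100000 in
theorem sch3_17 : chunk (schG N L3 chTail3 6) 23 17 = true := by decide +kernel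
set_option maxRecDepth 100000 in
theorem sch3_18 : chunk (schG N L3 chTail3 6) 23 18 = true := by decide +kernel
set_option maxRecDepth 100000 in
theorem sch3_19 : chunk (schG N L3 chTail3 6) 23 19 = true := by decide +kernel
set_option maxRecDepth 100000 in
theorem sch3_20 : chunk (schG N L3 chTail3 6) 23 20 = true := by decide +kernel
set_option maxRecDepth 100000 in
theorem sch3_21 : chunk (schG N L3 chTail3 6) 23 21 = true := by decide +kernel
set_option maxRecDepth 100000 in
theorem sch3_22 : chunk (schG N L3 chTail3 6) 23 22 = true := by decide +kernel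
set_option maxRecDepth 100000 in
theorem sch3_23 : chunk (schG N L3 chTail3 6) 23 23 = true := by decide +kernel
theorem sch3 : schOK N L3 chTail3 6 = true :=
  schOK_of_chunks (m := 24) (s := 23) (by norm_num) (fun c hc => by
    interval_cases c
    · exact sch3_0
    · exact sch3_1
    · exact sch3_2
    · exact sch3_3
    · exact sch3_4
    · exact sch3_5
    · exact sch3_6
    · exact sch3_7
    · exact sch3_8
    · exact sch3_9
    · exact sch3_10
    · exact sch3_11
    · exact sch3_12
    · exact sch3_13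
    · exact sch3_14
    · exact sch3_15
    · exact sch3_16
    · exact sch3_17
    · exact sch3_18
    · exact sch3_19
    · exact sch3_20
    · exact sch3_21
    · exact sch3_22
    · exact sch3_23
  )
theorem lev3 : LevelSem E (hh.K 6) (hh.K 4) L3 :=
  hh.level_cons (m := 6) (m' := 4) (by norm_num) (by norm_num) rfl rfl (by decide +kernel) tree3 (by decide +kernel) (by decide +kernel)
    (by decide +kernel) chT4 [529, 46, 270] ((by decide +kernel : [529, 46, 270] ++ L3.b :: basesOf chTail3 = baseAll) ▸ based_all) (by decide) (by decide +kernel) sch3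
theorem chT3 : ChainSem E (hh.K 6) (L3 :: chTail3) := ⟨_, lev3, chT4⟩

theorem tree2 : L2.treeOK N = true := by decide +kernel
/-- The tail of the chain. -/
noncomputable def chTail2 : List Lev := L3 :: chTail3
set_option maxRecDepth 100000 in
theorem sch2_0 : chunk (schG N L2 chTail2 9) 23 0 = true := by decide +kernel
set_option maxRecDepth 100000 in
theorem sch2_1 : chunk (schG N L2 chTail2 9) 23 1 = true := by decide +kernel
set_option maxRecDepth 100000 in
theorem sch2_2 : chunk (schG N L2 chTail2 9) 23 2 = true := by decide +kernel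
set_option maxRecDepth 100000 in
theorem sch2_3 : chunk (schG N L2 chTail2 9) 23 3 = true := by decide +kernel
set_option maxRecDepth 100000 in
theorem sch2_4 : chunk (schG N L2 chTail2 9) 23 4 = true := by decide +kernel
set_option maxRecDepth 100000 in
theorem sch2_5 : chunk (schG N L2 chTail2 9) 23 5 = true := by decide +kernel
set_option maxRecDepth 100000 in
theorem sch2_6 : chunk (schG N L2 chTail2 9) 23 6 = true := by decide +kernel
set_option maxRecDepth 100000 in
theorem sch2_7 : chunk (schG N L2 chTail2 9) 23 7 = true := by decide +kernel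
set_option maxRecDepth 100000 in
theorem sch2_8 : chunk (schG N L2 chTail2 9) 23 8 = true := by decide +kernel
set_option maxRecDepth 100000 in
theorem sch2_9 : chunk (schG N L2 chTail2 9) 23 9 = true := by decide +kernel
set_option maxRecDepth 100000 in
theorem sch2_10 : chunk (schG N L2 chTail2 9) 23 10 = true := by decide +kernel
set_option maxRecDepth 100000 in
theorem sch2_11 : chunk (schG N L2 chTail2 9) 23 11 = true := by decide +kernel
set_option maxRecDepth 100000 in
theorem sch2_12 : chunk (schG N L2 chTail2 9) 23 12 = true := by decide +kernel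
set_option maxRecDepth 100000 in
theorem sch2_13 : chunk (schG N L2 chTail2 9) 23 13 = true := by decide +kernel
set_option maxRecDepth 100000 in
theorem sch2_14 : chunk (schG N L2 chTail2 9) 23 14 = true := by decide +kernel
set_option maxRecDepth 100000 in
theorem sch2_15 : chunk (schG N L2 chTail2 9) 23 15 = true := by decide +kernel
set_option maxRecDepth 100000 in
theorem sch2_16 : chunk (schG N L2 chTail2 9) 23 16 = true := by decide +kernel
set_option maxRecDepth 100000 in
theorem sch2_17 : chunk (schG N L2 chTail2 9) 23 17 = true := by decide +kernel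
set_option maxRecDepth 100000 in
theorem sch2_18 : chunk (schG N L2 chTail2 9) 23 18 = true := by decide +kernel
set_option maxRecDepth 100000 in
theorem sch2_19 : chunk (schG N L2 chTail2 9) 23 19 = true := by decide +kernel
set_option maxRecDepth 100000 in
theorem sch2_20 : chunk (schG N L2 chTail2 9) 23 20 = true := by decide +kernel
set_option maxRecDepth 100000 in
theorem sch2_21 : chunk (schG N L2 chTail2 9) 23 21 = true := by decide +kernel
set_option maxRecDepth 100000 in
theorem sch2_22 : chunk (schG N L2 chTail2 9) 23 22 = true := by decide +kernel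
set_option maxRecDepth 100000 in
theorem sch2_23 : chunk (schG N L2 chTail2 9) 23 23 = true := by decide +kernel
theorem sch2 : schOK N L2 chTail2 9 = true :=
  schOK_of_chunks (m := 24) (s := 23) (by norm_num) (fun c hc => by
    interval_cases c
    · exact sch2_0
    · exact sch2_1
    · exact sch2_2
    · exact sch2_3
    · exact sch2_4
    · exact sch2_5
    · exact sch2_6
    · exact sch2_7
    · exact sch2_8
    · exact sch2_9
    · exact sch2_10
    · exact sch2_11
    · exact sch2_12
    · exact sch2_13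
    · exact sch2_14
    · exact sch2_15
    · exact sch2_16
    · exact sch2_17
    · exact sch2_18
    · exact sch2_19
    · exact sch2_20
    · exact sch2_21
    · exact sch2_22
    · exact sch2_23
  )
theorem lev2 : LevelSem E (hh.K 9) (hh.K 6) L2 :=
  hh.level_cons (m := 9) (m' := 6) (by norm_num) (by norm_num) rfl rfl (by decide +kernel) tree2 (by decide +kernel) (by decide +kernel)
    (by decide +kernel) chT3 [529, 46] ((by decide +kernel : [529, 46] ++ L2.b :: basesOf chTail2 = baseAll) ▸ based_all) (by decide) (by decide +kernel) sch2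
theorem chT2 : ChainSem E (hh.K 9) (L2 :: chTail2) := ⟨_, lev2, chT3⟩

theorem tree1 : L1.treeOK N = true := by decide +kernel
/-- The tail of the chain. -/
noncomputable def chTail1 : List Lev := L2 :: chTail2
set_option maxRecDepth 100000 in
theorem sch1_0 : chunk (schG N L1 chTail1 12) 23 0 = true := by decide +kernel
set_option maxRecDepth 100000 in
theorem sch1_1 : chunk (schG N L1 chTail1 12) 23 1 = true := by decide +kernel
set_option maxRecDepth 100000 in
theorem sch1_2 : chunk (schG N L1 chTail1 12) 23 2 = true := by decide +kernel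
set_option maxRecDepth 100000 in
theorem sch1_3 : chunk (schG N L1 chTail1 12) 23 3 = true := by decide +kernel
set_option maxRecDepth 100000 in
theorem sch1_4 : chunk (schG N L1 chTail1 12) 23 4 = true := by decide +kernel
set_option maxRecDepth 100000 in
theorem sch1_5 : chunk (schG N L1 chTail1 12) 23 5 = true := by decide +kernel
set_option maxRecDepth 100000 in
theorem sch1_6 : chunk (schG N L1 chTail1 12) 23 6 = true := by decide +kernel
set_option maxRecDepth 100000 in
theorem sch1_7 : chunk (schG N L1 chTail1 12) 23 7 = true := by decide +kernel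
set_option maxRecDepth 100000 in
theorem sch1_8 : chunk (schG N L1 chTail1 12) 23 8 = true := by decide +kernel
set_option maxRecDepth 100000 in
theorem sch1_9 : chunk (schG N L1 chTail1 12) 23 9 = true := by decide +kernel
set_option maxRecDepth 100000 in
theorem sch1_10 : chunk (schG N L1 chTail1 12) 23 10 = true := by decide +kernel
set_option maxRecDepth 100000 in
theorem sch1_11 : chunk (schG N L1 chTail1 12) 23 11 = true := by decide +kernel
set_option maxRecDepth 100000 in
theorem sch1_12 : chunk (schG N L1 chTail1 12) 23 12 = true := by decide +kernel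
set_option maxRecDepth 100000 in
theorem sch1_13 : chunk (schG N L1 chTail1 12) 23 13 = true := by decide +kernel
set_option maxRecDepth 100000 in
theorem sch1_14 : chunk (schG N L1 chTail1 12) 23 14 = true := by decide +kernel
set_option maxRecDepth 100000 in
theorem sch1_15 : chunk (schG N L1 chTail1 12) 23 15 = true := by decide +kernel
set_option maxRecDepth 100000 in
theorem sch1_16 : chunk (schG N L1 chTail1 12) 23 16 = true := by decide +kernel
set_option maxRecDepth 100000 in
theorem sch1_17 : chunk (schG N L1 chTail1 12) 23 17 = true := by decide +kernel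
set_option maxRecDepth 100000 in
theorem sch1_18 : chunk (schG N L1 chTail1 12) 23 18 = true := by decide +kernel
set_option maxRecDepth 100000 in
theorem sch1_19 : chunk (schG N L1 chTail1 12) 23 19 = true := by decide +kernel
set_option maxRecDepth 100000 in
theorem sch1_20 : chunk (schG N L1 chTail1 12) 23 20 = true := by decide +kernel
set_option maxRecDepth 100000 in
theorem sch1_21 : chunk (schG N L1 chTail1 12) 23 21 = true := by decide +kernel
set_option maxRecDepth 100000 in
theorem sch1_22 : chunk (schG N L1 chTail1 12) 23 22 = true := by decide +kernel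
set_option maxRecDepth 100000 in
theorem sch1_23 : chunk (schG N L1 chTail1 12) 23 23 = true := by decide +kernel
theorem sch1 : schOK N L1 chTail1 12 = true :=
  schOK_of_chunks (m := 24) (s := 23) (by norm_num) (fun c hc => by
    interval_cases c
    · exact sch1_0
    · exact sch1_1
    · exact sch1_2
    · exact sch1_3
    · exact sch1_4
    · exact sch1_5
    · exact sch1_6
    · exact sch1_7
    · exact sch1_8
    · exact sch1_9
    · exact sch1_10
    · exact sch1_11
    · exact sch1_12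
    · exact sch1_13
    · exact sch1_14
    · exact sch1_15
    · exact sch1_16
    · exact sch1_17
    · exact sch1_18
    · exact sch1_19
    · exact sch1_20
    · exact sch1_21
    · exact sch1_22
    · exact sch1_23
  )
theorem lev1 : LevelSem E (hh.K 12) (hh.K 9) L1 :=
  hh.level_cons (m := 12) (m' := 9) (by norm_num) (by norm_num) rfl rfl (by decide +kernel) tree1 (by decide +kernel) (by decide +kernel)
    (by decide +kernel) chT2 [529] ((by decide +kernel : [529] ++ L1.b :: basesOf chTail1 = baseAll) ▸ based_all) (by decide) (by decide +kernel) sch1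
theorem chT1 : ChainSem E (hh.K 12) (L1 :: chTail1) := ⟨_, lev1, chT2⟩

theorem chF : ChainSem E (hh.K 12) [L1, L2, L3, L4, L5] :=
  ⟨_, lev1, _, lev2, _, lev3, _, lev4, _, lev5, hh.K_zero⟩

theorem gens0 : GensIn E K L0 := by
  intro k
  match k with
  | 0 => exact ⟨_, memK_D0, code_D0, codei_D0⟩
  | 1 => exact ⟨_, memK_D1, code_D1, codei_D1⟩
  | 2 => exact ⟨_, memK_D2, code_D2, codei_D2⟩
  | 3 => exact ⟨_, memK_D3, code_D3, codei_D3⟩
  | (k + 4) =>
    refine ⟨1, K.one_mem, isCode_one E, ?_⟩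
    rw [inv_one]
    exact isCode_one E

theorem K_le_H : K ≤ H := by
  rw [K, Subgroup.closure_le]
  rintro s (rfl | rfl | rfl | rfl)
  · exact (D0 : G).2
  · exact (D1 : G).2
  · exact (D2 : G).2
  · exact (D3 : G).2

theorem K1_le : hh.K 12 ≤ K := by
  rw [Hier.K, Subgroup.closure_le]
  rintro _ ⟨k, hk, rfl⟩
  have hk' : k < 12 := hk
  interval_cases k
  · exact memK_D8
  · exact memK_D13
  · exact memK_D11
  · exact memK_D12
  · exact memK_D6
  · exact memK_D7
  · exact memK_D4
  · exact memK_D5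
  · exact memK_D10
  · exact memK_D1
  · exact memK_D2
  · exact memK_D9

theorem sift_K {σ : Equiv.Perm (Fin N)} (hσ : σ ∈ H) {c : ℕ → ℕ} (hc : E.IsCode σ c) (h0 : c 529 = 529)
    (hs : siftL (n := N) (L1 :: chTail1) ((basesOf (L1 :: chTail1)).map c) = true) : σ ∈ hh.K 12 := by
  have hbl' : 529 < N := by norm_num
  refine sift_sound chT1 [529] ((by decide +kernel : [529] ++ basesOf (L1 :: chTail1) = baseAll) ▸ based_all) (hh.K_le (by norm_num)) ?_ hσ ?_ hc hs
  · intro τ hτ x hx
    rw [List.mem_singleton.1 hx]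
    exact hh.fix_K (by norm_num) hbl' (by decide +kernel) τ hτ
  · intro x hx
    rw [List.mem_singleton.1 hx]
    exact fix_of_code hc hbl' h0

theorem hstab : ∀ σ ∈ H, σ (E.pt 529) = E.pt 529 → σ ∈ hh.K 12 := by
  rintro _ ⟨g, rfl⟩ hfix
  have hb : 529 < N := by norm_num
  rw [LRep.coe_pt 529 hb] at hfix
  have h1 : g.1 leechU = leechU := by
    have hvec := R.vec_eq hb rowU_pt (by decide +kernel)
    have h2 := R.rep_spec g ⟨529, hb⟩
    rw [hfix, hvec] at h2
    exact h2
  have hM : g.1 ∈ Spor.McL := ⟨g.2, h1⟩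
  have hg := McL.gen_McL g.1 hM
  have h2 := rep_mem_closure Spor.Co3 R.rep (hh.K 12) (S := {McL.gU.1, McL.gX.1, McL.gY.1, McL.gE.1}) ?_ hg g.2
  · exact h2
  · rintro s (rfl | rfl | rfl | rfl)
    · exact ⟨(g1).2, sift_K (D1 : G).2 code_D1 (by decide +kernel) (by decide +kernel)⟩
    · exact ⟨(g2).2, sift_K (D2 : G).2 code_D2 (by decide +kernel) (by decide +kernel)⟩
    · exact ⟨gY.2, sift_K ⟨gY, rfl⟩ code_gY (by decide +kernel) (by decide +kernel)⟩
    · exact ⟨gEM.2, sift_K ⟨gEM, rfl⟩ code_gEM (by decide +kernel) (by decide +kernel)⟩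


theorem tree0 : L0.treeOK N = true := by decide +kernel

theorem top : H = K ∧ LevelSem E H (hh.K 12) L0 :=
  level_top K_le_H K1_le gens0 tree0 (by decide +kernel) (by decide +kernel) (hh.fix_K (by norm_num) (by decide +kernel) (by decide +kernel)) hstab

/-- The levels. -/
noncomputable def Ls : List Lev := [L0, L1, L2, L3, L4, L5]

theorem chainH : ChainSem E H Ls := ⟨_, top.2, chF⟩

theorem sizes : (Ls.map (Lev.size N)).prod = 495766656000 := by decide +kernel

theorem card_H : Nat.card H = 495766656000 := by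
  rw [chainH.card_eq, sizes]

/-- The generators of the Rigidity argument. -/
noncomputable abbrev w : G := D0
/-- The generators of the Rigidity argument. -/
noncomputable abbrev u : G := D1
/-- The generators of the Rigidity argument. -/
noncomputable abbrev x₁ : G := D2
/-- The generators of the Rigidity argument. -/
noncomputable abbrev x₂ : G := D3

/-- The code of `w`. -/
noncomputable abbrev cw : ℕ → ℕ := pq t0
/-- The code of `u`. -/
noncomputable abbrev cu : ℕ → ℕ := pq t1
/-- The code of `x₁`. -/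
noncomputable abbrev cx₁ : ℕ → ℕ := pq t2
/-- The code of `x₂`. -/
noncomputable abbrev cx₂ : ℕ → ℕ := pq t3

theorem based2 : Based E H (basesOf Ls) := based_of_chain chainH
theorem lt2 : ∀ b ∈ basesOf Ls, b < N := bases_lt chainH

/-- The invariant. -/
noncomputable def gr : ℕ → ℕ → ℕ := gramF tP tQ tT
theorem grInv : GramInv E H gr := R.gramInvF (by decide +kernel)

theorem w_pow : w ^ 23 = 1 := eq_of_chk based2 lt2 (coe_pow_isCode code_D0 23) (isCode_one E) (by decide +kernel)
theorem u_pow : u ^ 11 = 1 := eq_of_chk based2 lt2 (coe_pow_isCode code_D1 11) (isCode_one E) (by decide +kernel)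

theorem w_ne : w ≠ 1 := fun h => ne_one_of_code code_D0 (i := 0) (by norm_num) (by decide +kernel) (congrArg Subtype.val h)

theorem orderOf_w : orderOf w = 23 := by
  have : Fact (Nat.Prime 23) := ⟨by norm_num⟩
  exact orderOf_eq_prime w_pow w_ne

theorem rel_uw : u * w = w ^ 2 * u :=
  eq_of_chk based2 lt2 (coe_code_mul code_D1 code_D0) (coe_code_mul (coe_pow_isCode code_D0 2) code_D1) (by decide +kernel)

theorem conj_uw : u * w * u⁻¹ = w ^ 2 := by rw [rel_uw]; group

/-- Elements of the normaliser of `⟨w⟩`. -/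
noncomputable def csN (i : ℕ) : ℕ → ℕ := fun q => iterN cw (i / 11) (iterN cu (i % 11) q)

set_option maxRecDepth 100000 in
theorem sN1 : srch gr cw (iterN cw 1) 23 N (leafT (basesOf Ls) cw (iterN cw 1) csN 253) Ls (fun q => q) [] = true := by decide +kernel
set_option maxRecDepth 100000 in
theorem sN22 : srch gr cw (iterN cw 22) 23 N (leafT (basesOf Ls) cw (iterN cw 22) csN 253) Ls (fun q => q) [] = true := by decide +kernel

theorem pow_mod_w (j : ℕ) : w ^ j = w ^ (j % 23) := by
  conv_lhs => rw [← Nat.div_add_mod j 23, pow_add, pow_mul, w_pow, one_pow, one_mul]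

theorem hcl (k : ℕ) (hk : ¬ 23 ∣ k) : ∃ j, k * 2 ^ j ≡ 1 [MOD 23] ∨ k * 2 ^ j ≡ 23 - 1 [MOD 23] := by
  have h1 : ∀ a : Fin 23, a.val ≠ 0 → ∃ j : Fin 11, (a.val * 2 ^ j.val) % 23 = 1 ∨ (a.val * 2 ^ j.val) % 23 = 23 - 1 := by
    decide
  have h2 : k % 23 ≠ 0 := fun h0 => hk (Nat.dvd_of_mod_eq_zero h0)
  obtain ⟨j, h3⟩ := h1 ⟨k % 23, Nat.mod_lt _ (by norm_num)⟩ h2
  refine ⟨j.val, ?_⟩
  rcases h3 with h3 | h3
  · left
    show k * 2 ^ j.val % 23 = 1 % 23
    rw [← Nat.mod_mul_mod]
    exact h3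
  · right
    show k * 2 ^ j.val % 23 = (23 - 1) % 23
    rw [← Nat.mod_mul_mod]
    exact h3

theorem hN0 (j : ℕ) (hj : j ∈ [1, 22]) (g : G) (h : g * w * g⁻¹ = w ^ j) : ∃ a b : ℕ, b < 11 ∧ g = w ^ a * u ^ b := by
  have h2 : srch gr cw (iterN cw j) 23 N (leafT (basesOf Ls) cw (iterN cw j) csN 253) Ls (fun q => q) [] = true := by
    simp only [List.mem_cons, List.not_mem_nil, or_false] at hj
    rcases hj with rfl | rfl
    · exact sN1
    · exact sN22
  have h3 : (g : Equiv.Perm (Fin N)) * w = ((w ^ j : G) : Equiv.Perm (Fin N)) * g := by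
    rw [← h]
    have : g * w = g * w * g⁻¹ * g := by group
    exact congrArg Subtype.val this
  obtain ⟨i, _, hi⟩ := mem_list_of_search (cE := fun i => ((w ^ (i / 11) * u ^ (i % 11) : G) : Equiv.Perm (Fin N)))
    (cs := csN) (K := 253) grInv g.2 code_D0 (coe_pow_isCode code_D0 _) h3 23 chainH (fun i _ => (w ^ (i / 11) * u ^ (i % 11) : G).2)
    (fun i _ => by
      have h5 := coe_code_mul (coe_pow_isCode code_D0 (i / 11)) (coe_pow_isCode code_D1 (i % 11))
      exact h5) h2
  exact ⟨i / 11, i % 11, Nat.mod_lt _ (by norm_num), Subtype.ext hi⟩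

theorem hcl' (k : ℕ) (hk : ¬ 23 ∣ k) : ∃ j, ∃ e ∈ [1, 22], k * 2 ^ j ≡ e [MOD 23] := by
  obtain ⟨j, h | h⟩ := hcl k hk
  · exact ⟨j, 1, by simp, h⟩
  · exact ⟨j, 22, by simp, h⟩

theorem hN (g : G) (j : ℕ) (h : g * w * g⁻¹ = w ^ j) : ∃ a b : ℕ, b < 11 ∧ g = w ^ a * u ^ b :=
  hN_of_eps orderOf_w (by norm_num) conj_uw u_pow (by norm_num) [1, 22] hcl' (fun e he g h => hN0 e he g h) g j h

/-- The codes of the centraliser of `u`. -/
noncomputable def csC (i : ℕ) : ℕ → ℕ := fun q => iterN cu (i / 2) (iterN cx₂ (i % 2) q)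
/-- The centraliser of `u`. -/
noncomputable def cE (i : ℕ) : G := u ^ (i / 2) * x₂ ^ (i % 2)

theorem code_cE (i : ℕ) : E.IsCode ((cE i : G) : Equiv.Perm (Fin N)) (csC i) := by
  have h5 := coe_code_mul (coe_pow_isCode code_D1 (i / 2)) (coe_pow_isCode code_D3 (i % 2))
  exact h5

theorem cE_zero : cE 0 = 1 := by simp [cE]

set_option maxRecDepth 100000 in
theorem search_C : srch gr cu cu 11 N (leafT (basesOf Ls) cu cu csC 22) Ls (fun q => q) [] = true := by decide +kernel

theorem hCent (c : G) (h : c * u = u * c) : ∃ i, i < 22 ∧ c = cE i := by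
  obtain ⟨i, hi, e⟩ := mem_list_of_search (cE := fun i => ((cE i : G) : Equiv.Perm (Fin N))) (cs := csC) (K := 22)
    grInv c.2 code_D1 code_D1 (congrArg Subtype.val h) 11 chainH (fun i _ => (cE i : G).2)
    (fun i _ => code_cE i) search_C
  exact ⟨i, hi, Subtype.ext e⟩

theorem rel_x₁u : x₁ * u = u ^ 3 * x₁ :=
  eq_of_chk based2 lt2 (coe_code_mul code_D2 code_D1) (coe_code_mul (coe_pow_isCode code_D1 3) code_D2) (by decide +kernel)
theorem conj_x₁u : x₁ * u * x₁⁻¹ = u ^ 3 := by rw [rel_x₁u]; group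
theorem rel_x₂u : x₂ * u = u ^ 1 * x₂ :=
  eq_of_chk based2 lt2 (coe_code_mul code_D3 code_D1) (coe_code_mul (coe_pow_isCode code_D1 1) code_D3) (by decide +kernel)
theorem conj_x₂u : x₂ * u * x₂⁻¹ = u ^ 1 := by rw [rel_x₂u]; group

theorem closure_top : Subgroup.closure ({w, u, x₁, x₂} : Set G) = ⊤ := by
  rw [eq_top_iff]
  intro g _
  have h1 : (g : Equiv.Perm (Fin N)) ∈ K := by
    rw [← top.1]
    exact g.2
  have h2 : Subgroup.closure (((↑) : G → Equiv.Perm (Fin N)) '' {w, u, x₁, x₂}) =
      (Subgroup.closure ({w, u, x₁, x₂} : Set G)).map H.subtype := by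
    rw [MonoidHom.map_closure]
    rfl
  have h3 : K = Subgroup.closure (((↑) : G → Equiv.Perm (Fin N)) '' {w, u, x₁, x₂}) := by
    rw [K, Sx]
    simp [Set.image_insert_eq]
  rw [h3, h2] at h1
  obtain ⟨g', hg', e⟩ := h1
  have : g' = g := Subtype.ext e
  rwa [← this]

/-- The generators at the first step. -/
noncomputable def gs₁ : ℕ → G := cns w (cns u (fun _ => 1))
/-- Their codes. -/
noncomputable def cs₁ : ℕ → ℕ → ℕ := cns cw (cns cu (fun _ a => a))
/-- The generators at the second step. -/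
noncomputable def gs₂ : ℕ → G := cns w (cns u (cns x₁ (fun _ => 1)))
/-- Their codes. -/
noncomputable def cs₂ : ℕ → ℕ → ℕ := cns cw (cns cu (cns cx₁ (fun _ a => a)))

theorem cs₁_code (i : ℕ) : E.IsCode ((gs₁ i : G) : Equiv.Perm (Fin N)) (cs₁ i) := by
  match i with
  | 0 => exact code_D0
  | 1 => exact code_D1
  | (k + 2) => exact isCode_one E

theorem cs₂_code (i : ℕ) : E.IsCode ((gs₂ i : G) : Equiv.Perm (Fin N)) (cs₂ i) := by
  match i with
  | 0 => exact code_D0
  | 1 => exact code_D1
  | 2 => exact code_D2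
  | (k + 3) => exact isCode_one E

/-- The images of the first generators. -/
noncomputable def cs₃ (e : ℕ) : ℕ → ℕ → ℕ := cns (iterN cw e) (cns cu (fun _ a => a))
/-- The images of the second generators. -/
noncomputable def cs₄ (e i : ℕ) : ℕ → ℕ → ℕ := cns (iterN cw e) (cns cu (cns (fun a => cx₁ (csC i a)) (fun _ a => a)))

theorem cs₃_code (ψ : MulAut G) (e : ℕ) (h1 : ψ w = w ^ e) (h2 : ψ u = u) (i : ℕ) :
    E.IsCode ((ψ (gs₁ i) : G) : Equiv.Perm (Fin N)) (cs₃ e i) := by
  match i with
  | 0 =>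
    show E.IsCode ((ψ w : G) : Equiv.Perm (Fin N)) _
    rw [h1]
    exact coe_pow_isCode code_D0 e
  | 1 =>
    show E.IsCode ((ψ u : G) : Equiv.Perm (Fin N)) _
    rw [h2]
    exact code_D1
  | (k + 2) =>
    show E.IsCode ((ψ 1 : G) : Equiv.Perm (Fin N)) (fun a => a)
    rw [map_one]
    exact isCode_one E

theorem cs₄_code (ψ : MulAut G) (e j : ℕ) (h1 : ψ w = w ^ e) (h2 : ψ u = u) (h3 : ψ x₁ = x₁ * cE j) (i : ℕ) :
    E.IsCode ((ψ (gs₂ i) : G) : Equiv.Perm (Fin N)) (cs₄ e j i) := by
  match i with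
  | 0 =>
    show E.IsCode ((ψ w : G) : Equiv.Perm (Fin N)) _
    rw [h1]
    exact coe_pow_isCode code_D0 e
  | 1 =>
    show E.IsCode ((ψ u : G) : Equiv.Perm (Fin N)) _
    rw [h2]
    exact code_D1
  | 2 =>
    show E.IsCode ((ψ x₁ : G) : Equiv.Perm (Fin N)) _
    rw [h3]
    have h5 := coe_code_mul code_D2 (code_cE j)
    exact h5
  | (k + 3) =>
    show E.IsCode ((ψ 1 : G) : Equiv.Perm (Fin N)) (fun a => a)
    rw [map_one]
    exact isCode_one E

theorem tb1 : tblY (basesOf Ls) cs₁ (cs₃ 1) cx₁ csC tbl1 22 (fun i => [0].contains i) = true := by decide +kernel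
theorem tb1_0 : tblX (basesOf Ls) cs₂ (cs₄ 1 0) cx₂ csC tbl1_0 22 true = true := by decide +kernel
theorem key1_0 (ψ : MulAut G) (h1 : ψ w = w ^ 1) (h2 : ψ u = u) (h3 : ψ x₁ = x₁ * cE 0) : ψ = 1 := by
  obtain ⟨_, h4⟩ := step_tbl (x := x₂) (y := u) (cE := cE) based2 lt2 ψ hCent conj_x₂u h2 cs₂_code
    (cs₄_code ψ 1 0 h1 h2 h3) code_D3 code_cE tb1_0
  rw [cE_zero, mul_one] at h4
  rw [cE_zero, mul_one] at h3
  rw [pow_one] at h1
  apply Cfsg.Agent.Lib.KnownSimple.PE.eq_one_of_fix closure_top
  rintro g (rfl | rfl | rfl | rfl)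
  · exact h1
  · exact h2
  · exact h3
  · exact h4

theorem key1 (ψ : MulAut G) (h1 : ψ w = w ^ 1) (h2 : ψ u = u) : ψ = 1 := by
  obtain ⟨i, hi, h3⟩ := step_tblY (x := x₁) (y := u) (cE := cE) based2 lt2 ψ hCent conj_x₁u h2 cs₁_code
    (cs₃_code ψ 1 h1 h2) code_D2 code_cE tb1
  have h4 : i ∈ [0] := by simpa using hi
  simp only [List.mem_cons, List.not_mem_nil, or_false] at h4
  rcases h4 with rfl
  · exact key1_0 ψ h1 h2 h3

theorem tb22 : tblY (basesOf Ls) cs₁ (cs₃ 22) cx₁ csC tbl22 22 (fun i => ([] : List ℕ).contains i) = true := by decide +kernel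

theorem key22 (ψ : MulAut G) (h1 : ψ w = w ^ 22) (h2 : ψ u = u) : False := by
  obtain ⟨i, hi, h3⟩ := step_tblY (x := x₁) (y := u) (cE := cE) based2 lt2 ψ hCent conj_x₁u h2 cs₁_code
    (cs₃_code ψ 22 h1 h2) code_D2 code_cE tb22
  have h4 : i ∈ ([] : List ℕ) := by simpa using hi
  simp only [List.mem_cons, List.not_mem_nil, or_false] at h4
  

theorem card_not : ¬ 23 ^ 2 ∣ Nat.card G := by
  rw [show Nat.card G = 495766656000 from card_H]
  norm_num

theorem hrb : ∀ b, b < 11 → 2 ^ b ≡ 2 [MOD 23] → b = 1 := by decide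
theorem hk₀ : 1 + 1 ≡ 2 * 1 [MOD 23] := by decide
theorem all_inner_G (φ : MulAut G) : φ ∈ Inn G :=
  all_inner (p := 23) (r := 2) (m := 11) (k₀ := 1) (by norm_num) orderOf_w card_not conj_uw u_pow hN hrb hk₀ hcl (by decide) key1 key22 φ

theorem card_out_G : Nat.card (Out G) = 1 := card_out_eq_one all_inner_G

theorem card_out_Co3 : Nat.card (Out ↥Spor.Co3) = 1 := by
  rw [card_out_congr (equivRange R.rep hinj)]
  exact card_out_G

end Cfsg.Agent.Lib.KnownSimple.Leech.Co3
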